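import Mathlib
import Cfsg.Agent.Lib.Helper95.BRA.Defs

/-!
# BRA (S4484), package [Bli]: the sharp Blichfeldt lemma for simple groups
(conditional on the packages [B1], [B2], [B4]).
-/

set_option autoImplicit false

open scoped Matrix ComplexConjugate

namespace Cfsg.Agent.Lib.Helper47.BRA

open Cfsg Cfsg.Agent.Lib.Helper95.BRA Cfsg.Agent.Lib.Helper74.Jordan

universe u

theorem pkgBli : PkgB1 → PkgB2 → PkgB4.{u} → PkgBli.{u} := by
  intro hB1 hB2 hB4 G _ _ _ hnab n U hUu hfix x hx j₀ hSharp
  classical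
  have hN : Nat.card G ≠ 0 := Nat.card_pos.ne'
  have hUN : U x ^ Nat.card G = 1 := by rw [← map_pow, pow_card_eq_one', map_one]
  obtain ⟨hj₀, hP0, hsh⟩ := hSharp
  have hB4' := hB4 G n U hUu x j₀ ⟨hj₀, hP0, hsh⟩
  have hnum : ∀ w : Fin n → ℂ, w ≠ 0 → star w ⬝ᵥ (U x *ᵥ w) ≠ 0 := fun w hw =>
    (hB1 n (U x) (Nat.card G) j₀ hN hUN (hUu x) ⟨hj₀, hP0, hsh⟩ w).2.2 hw
  have hmulP := mul_proj hN hUN j₀
  have hPherm : (proj (U x) (Nat.card G) j₀)ᴴ = proj (U x) (Nat.card G) j₀ :=
    proj_herm hN hUN (hUu x) j₀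
  have hPidem : proj (U x) (Nat.card G) j₀ * proj (U x) (Nat.card G) j₀
      = proj (U x) (Nat.card G) j₀ := proj_idem hN hUN hj₀
  generalize proj (U x) (Nat.card G) j₀ = P at hP0 hB4' hmulP hPherm hPidem
  have hUl : ∀ g, U g⁻¹ * U g = 1 := fun g => by rw [← map_mul, inv_mul_cancel, map_one]
  have hUr : ∀ g, U g * U g⁻¹ = 1 := fun g => by rw [← map_mul, mul_inv_cancel, map_one]
  have hUinv : ∀ g, (U g)ᴴ = U g⁻¹ := by
    intro g
    calc (U g)ᴴ = (U g)ᴴ * (U g * U g⁻¹) := by rw [hUr, Matrix.mul_one]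
      _ = U g⁻¹ := by rw [← Matrix.mul_assoc, hUu, Matrix.one_mul]
  -- the conjugates of the eigenprojection
  let Pc : G → Matrix (Fin n) (Fin n) ℂ := fun y => U y * P * U y⁻¹
  have hPcdef : ∀ y, Pc y = U y * P * U y⁻¹ := fun y => rfl
  have hcomm : ∀ y₁ y₂, Pc y₁ * Pc y₂ = Pc y₂ * Pc y₁ := by
    intro y₁ y₂
    have h := hB4' y₁ y₂
    rw [hUinv, hUinv] at h
    exact h
  have hPcherm : ∀ y, (Pc y)ᴴ = Pc y := by
    intro y
    rw [hPcdef, Matrix.conjTranspose_mul, Matrix.conjTranspose_mul, hPherm, ← hUinv y,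
      Matrix.conjTranspose_conjTranspose, Matrix.mul_assoc]
  have hPcidem : ∀ y, Pc y * Pc y = Pc y := by
    intro y
    rw [hPcdef]
    calc U y * P * U y⁻¹ * (U y * P * U y⁻¹)
        = U y * P * (U y⁻¹ * U y) * P * U y⁻¹ := by simp only [Matrix.mul_assoc]
      _ = U y * (P * P) * U y⁻¹ := by rw [hUl, Matrix.mul_one]; simp only [Matrix.mul_assoc]
      _ = _ := by rw [hPidem]
  have htr : ∀ h y, U h * Pc y = Pc (h * y) * U h := by
    intro h y
    rw [hPcdef, hPcdef, mul_inv_rev, map_mul, map_mul]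
    calc U h * (U y * P * U y⁻¹) = U h * U y * P * U y⁻¹ * 1 := by
          simp only [Matrix.mul_assoc, Matrix.mul_one]
      _ = U h * U y * P * U y⁻¹ * (U h⁻¹ * U h) := by rw [hUl]
      _ = _ := by simp only [Matrix.mul_assoc]
  have hx1 : ∀ y, U x * Pc y = Pc y * U x := by
    intro y
    apply hB2 n (U x) (Pc y) (hUu x) (hPcherm y) (hPcidem y) hnum
    have e : U x * Pc y * (U x)ᴴ = Pc (x * y) := by
      rw [htr, hUinv, Matrix.mul_assoc, hUr, Matrix.mul_one]
    rw [e]
    exact hcomm y (x * y)
  -- the normal subgroup of the elements commuting with all the conjugates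
  let H : Subgroup G :=
    { carrier := {g | ∀ y, U g * Pc y = Pc y * U g}
      mul_mem' := by
        intro a b ha hb y
        have ha' := ha y
        have hb' := hb y
        rw [map_mul, Matrix.mul_assoc, hb', ← Matrix.mul_assoc, ha', Matrix.mul_assoc]
      one_mem' := by
        intro y
        rw [map_one, Matrix.one_mul, Matrix.mul_one]
      inv_mem' := by
        intro a ha y
        have ha' := ha y
        calc U a⁻¹ * Pc y = U a⁻¹ * Pc y * (U a * U a⁻¹) := by rw [hUr, Matrix.mul_one]
          _ = U a⁻¹ * (Pc y * U a) * U a⁻¹ := by simp only [Matrix.mul_assoc]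
          _ = U a⁻¹ * (U a * Pc y) * U a⁻¹ := by rw [ha']
          _ = (U a⁻¹ * U a) * Pc y * U a⁻¹ := by simp only [Matrix.mul_assoc]
          _ = Pc y * U a⁻¹ := by rw [hUl, Matrix.one_mul] }
  have hHn : H.Normal := by
    refine ⟨fun g hg h y => ?_⟩
    have hg' : ∀ y, U g * Pc y = Pc y * U g := hg
    have e1 := htr h⁻¹ y
    have e2 := htr h (h⁻¹ * y)
    rw [mul_inv_cancel_left] at e2
    calc U (h * g * h⁻¹) * Pc y = U h * U g * (U h⁻¹ * Pc y) := by
          rw [map_mul, map_mul]; simp only [Matrix.mul_assoc]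
      _ = U h * (U g * Pc (h⁻¹ * y)) * U h⁻¹ := by rw [e1]; simp only [Matrix.mul_assoc]
      _ = (U h * Pc (h⁻¹ * y)) * U g * U h⁻¹ := by rw [hg']; simp only [Matrix.mul_assoc]
      _ = Pc y * U (h * g * h⁻¹) := by
          rw [e2, map_mul, map_mul]; simp only [Matrix.mul_assoc]
  have hHtop : H = ⊤ := by
    rcases hHn.eq_bot_or_eq_top with h | h
    · exfalso
      have hxH : x ∈ H := hx1
      rw [h, Subgroup.mem_bot] at hxH
      exact hx hxH
    · exact h
  have hPc1 : Pc 1 = P := by
    rw [hPcdef, inv_one, map_one, Matrix.one_mul, Matrix.mul_one]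
  have hall : ∀ g, U g * P = P * U g := by
    intro g
    have hg : g ∈ H := by rw [hHtop]; exact Subgroup.mem_top g
    have := hg 1
    rwa [hPc1] at this
  -- the normal subgroup of the elements fixing the image of `P`
  let K : Subgroup G :=
    { carrier := {g | U g * P = P}
      mul_mem' := by
        intro a b ha hb
        have ha' : U a * P = P := ha
        have hb' : U b * P = P := hb
        show U (a * b) * P = P
        rw [map_mul, Matrix.mul_assoc, hb', ha']
      one_mem' := by
        show U 1 * P = P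
        rw [map_one, Matrix.one_mul]
      inv_mem' := by
        intro a ha
        have ha' : U a * P = P := ha
        show U a⁻¹ * P = P
        calc U a⁻¹ * P = U a⁻¹ * (U a * P) := by rw [ha']
          _ = P := by rw [← Matrix.mul_assoc, hUl, Matrix.one_mul] }
  have hKn : K.Normal := by
    refine ⟨fun g hg h => ?_⟩
    have hg' : U g * P = P := hg
    show U (h * g * h⁻¹) * P = P
    calc U (h * g * h⁻¹) * P = U h * U g * (U h⁻¹ * P) := by
          rw [map_mul, map_mul]; simp only [Matrix.mul_assoc]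
      _ = U h * (U g * P) * U h⁻¹ := by rw [hall h⁻¹]; simp only [Matrix.mul_assoc]
      _ = (U h * P) * U h⁻¹ := by rw [hg']
      _ = P * (U h * U h⁻¹) := by rw [hall h]; simp only [Matrix.mul_assoc]
      _ = P := by rw [hUr, Matrix.mul_one]
  rcases hKn.eq_bot_or_eq_top with hK | hK
  · -- `x` is central
    have hxc : ∀ g, x * g = g * x := by
      intro g
      have h1 : U (x * g) * P = U (g * x) * P := by
        have e1 : U (x * g) * P = ev (Nat.card G) j₀ • (P * U g) := by
          rw [map_mul, Matrix.mul_assoc, hall g, ← Matrix.mul_assoc, hmulP, Matrix.smul_mul]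
        have e2 : U (g * x) * P = ev (Nat.card G) j₀ • (P * U g) := by
          rw [map_mul, Matrix.mul_assoc, hmulP, Matrix.mul_smul, hall g]
        rw [e1, e2]
      have h2 : (g * x)⁻¹ * (x * g) ∈ K := by
        show U ((g * x)⁻¹ * (x * g)) * P = P
        rw [map_mul, Matrix.mul_assoc, h1, ← Matrix.mul_assoc, hUl, Matrix.one_mul]
      rw [hK, Subgroup.mem_bot] at h2
      exact (inv_mul_eq_one.1 h2).symm
    have hxZ : x ∈ Subgroup.center G := by
      rw [Subgroup.mem_center_iff]
      intro g
      exact (hxc g).symm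
    have hZtop : Subgroup.center G = ⊤ := by
      rcases (inferInstance : (Subgroup.center G).Normal).eq_bot_or_eq_top with h | h
      · exfalso
        rw [h, Subgroup.mem_bot] at hxZ
        exact hx hxZ
      · exact h
    apply hnab
    intro a b
    have ha : a ∈ Subgroup.center G := by rw [hZtop]; exact Subgroup.mem_top a
    rw [Subgroup.mem_center_iff] at ha
    exact (ha b).symm
  · -- every column of `P` is a fixed vector
    apply hP0
    have hKall : ∀ g, U g * P = P := by
      intro g
      have hg : g ∈ K := by rw [hK]; exact Subgroup.mem_top g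
      exact hg
    ext k i
    have hv : (fun k => P k i) = 0 := by
      apply hfix
      intro g
      ext k
      have := congrFun (congrFun (hKall g) k) i
      rw [Matrix.mul_apply] at this
      rw [Matrix.mulVec, dotProduct]
      exact this
    exact congrFun hv k

end Cfsg.Agent.Lib.Helper47.BRA
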