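import Mathlib
import Cfsg.Agent.Lib.Helper95.BRA.Defs
import Cfsg.Agent.Lib.Helper74.FrobSchur
import Cfsg.Agent.Lib.Helper81.CharCore

/-!
# BRA (S4484), package [Mat]: a unitary matrix representation affording a nonprincipal
irreducible character has no nonzero fixed vector.
-/

set_option autoImplicit false

open scoped Matrix ComplexConjugate

namespace Cfsg.Agent.Lib.Helper47.BRA

open Cfsg Cfsg.Agent.Lib.Helper95.BRA Cfsg.Agent.Lib.Helper74.Jordan

universe u

theorem pkgMat : PkgMat.{u} := by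
  intro G _ _ χ hχ hne
  classical
  have := Fintype.ofFinite G
  have hχ0 := hχ
  obtain ⟨n, ρ, hirr, hρ⟩ := hχ
  have hM : ∀ g, χ g = (Lib.Helper74.matHom ρ (Pi.basisFun ℂ (Fin n)) g).trace := fun g => by
    rw [← hρ]; exact Lib.Helper74.character_eq_trace ρ (Pi.basisFun ℂ (Fin n)) g
  obtain ⟨U, hUu, hUtr⟩ := exists_unitary_hom (Lib.Helper74.matHom ρ (Pi.basisFun ℂ (Fin n)))
  have hχU : ∀ g, (U g).trace = χ g := fun g => by rw [hM, hUtr]
  refine ⟨n, U, hUu, hχU, ?_⟩
  -- the sum of the values of `χ` vanishes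
  have hsum : ∑ g : G, χ g = 0 := by
    have h := Lib.Helper81.irr_orth (⟨χ, hχ0⟩ : IrrCharacter G)
      ⟨fun _ => 1, Lib.Helper81.isIrrCharacter_one⟩
    rw [if_neg] at h
    · simpa using h
    · intro h'; exact hne (congrArg Subtype.val h')
  have hG : (Nat.card G : ℂ) ≠ 0 := by exact_mod_cast Nat.card_pos.ne'
  set S : Matrix (Fin n) (Fin n) ℂ := ∑ g : G, U g with hS
  have hUS : ∀ h, U h * S = S := by
    intro h
    rw [hS, Finset.mul_sum]
    refine Fintype.sum_equiv (Equiv.mulLeft h) _ _ ?_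
    intro g
    simp [map_mul]
  have hUinv : ∀ g, (U g)ᴴ = U g⁻¹ := by
    intro g
    have h1 : U g * U g⁻¹ = 1 := by rw [← map_mul, mul_inv_cancel, map_one]
    calc (U g)ᴴ = (U g)ᴴ * (U g * U g⁻¹) := by rw [h1, Matrix.mul_one]
      _ = U g⁻¹ := by rw [← Matrix.mul_assoc, hUu, Matrix.one_mul]
  have hSherm : Sᴴ = S := by
    rw [hS, Matrix.conjTranspose_sum]
    refine Fintype.sum_equiv (Equiv.inv G) _ _ ?_
    intro g
    rw [hUinv]; rfl
  have hSS : S * S = (Nat.card G : ℂ) • S := by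
    have h1 : S * S = ∑ g : G, U g * S := by rw [← Finset.sum_mul]
    rw [h1]
    simp only [hUS]
    rw [Finset.sum_const, Finset.card_univ, Nat.card_eq_fintype_card, Nat.cast_smul_eq_nsmul]
  have htr : S.trace = 0 := by
    rw [hS, Matrix.trace_sum]
    simp only [hχU, hsum]
  have hS0 : S = 0 := by
    apply fn_eq_zero.1
    have h := trace_conjTranspose_mul_self S
    rw [hSherm, hSS, Matrix.trace_smul, htr, smul_zero] at h
    exact_mod_cast h.symm
  intro v hv
  have h1 : S *ᵥ v = (Nat.card G : ℂ) • v := by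
    rw [hS, Matrix.sum_mulVec]
    simp only [hv]
    rw [Finset.sum_const, Finset.card_univ, Nat.card_eq_fintype_card, Nat.cast_smul_eq_nsmul]
  rw [hS0, Matrix.zero_mulVec] at h1
  rcases smul_eq_zero.1 h1.symm with h2 | h2
  · exact absurd h2 hG
  · exact h2

end Cfsg.Agent.Lib.Helper47.BRA
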